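import Cfsg.Agent.Lib.OddProd.Core
import Mathlib.Tactic.FinCases
import Mathlib.Tactic.NormNum

/-!
The case analysis for two involutions with equally large supports.
-/

set_option autoImplicit false
set_option linter.unusedSectionVars false

namespace CfsgLib.OddProd

open Equiv

variable {α : Type*} [Fintype α] [DecidableEq α] {S : Finset α} {x y : Perm α}

/-- The induction hypothesis. -/
abbrev Rec (S : Finset α) : Prop :=
  ∀ (S' : Finset α) (x' y' : Perm α), S'.card < S.card → Ok S' x' y' → ¬ Exc S' x' y' → Sol S' x' y'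

/-- The two involutions contain a four-cycle. -/
def Four (x y : Perm α) : Prop := ∃ a, x a ≠ a ∧ y a ≠ a ∧ x a ≠ y a ∧ x (y a) = y (x a)

theorem no_exc (hF : ¬ Four x y) {S' : Finset α} {x' y' : Perm α} (h' : Ok S' x' y')
    (hag : ∀ v ∈ S', x' v = x v ∧ y' v = y v) : ¬ Exc S' x' y' := by
  intro he
  obtain ⟨a, ha⟩ : S'.Nonempty := Finset.card_pos.mp (by rw [he.1]; norm_num)
  obtain ⟨h1, h2, h3, h4⟩ := he.shape h' ha
  obtain ⟨hb, hd⟩ := h'.stable ha
  rw [(hag a ha).1, (hag a ha).2] at h3 h4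
  rw [(hag a ha).1] at hb h1
  rw [(hag a ha).2] at hd h2
  rw [(hag _ hd).1, (hag _ hb).2] at h4
  exact hF ⟨a, h1, h2, h3, h4⟩

theorem piece_nf (h : Ok S x y) (IH : Rec S) (hF : ¬ Four x y) {m : ℕ} (hm : 0 < m) (e : Fin m ↪ α)
    (px py pz : Perm (Fin m)) (hS : ∀ i, e i ∈ S) (hx : ∀ i, x (e i) = e (px i))
    (hy : ∀ i, y (e i) = e (py i)) (hloc : Local px py pz) : Sol S x y :=
  piece h IH hm e px py pz hS hx hy hloc fun _ _ _ h' hag _ _ => no_exc hF h' hag

/-- The embedding given by a list without repetition. -/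
def mkEmb (l : List α) (h : l.Nodup) : Fin l.length ↪ α := ⟨l.get, List.nodup_iff_injective_get.mp h⟩

theorem ne_of_swap {w : Perm α} {u v : α} (h : w u = v) (hw : Inv w) : w v = u := by rw [← h, hw]

/-- Replacing four consecutive edges. -/
theorem segment (h : Ok S x y) (IH : Rec S) (hF : ¬ Four x y) {a b c d e f : α}
    (hn : [a, b, c, d, e, f].Nodup) (h1 : x a = b) (h2 : y b = c) (h3 : x c = d) (h4 : y d = e) (h5 : x e = f) :
    Sol S x y := by
  classical
  set E : Fin 6 ↪ α := mkEmb [a, b, c, d, e, f] hn with hE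
  let px : Perm (Fin 6) := swap 0 1 * swap 2 3 * swap 4 5
  let py : Perm (Fin 6) := swap 1 2 * swap 3 4
  let A : Finset (Fin 6) := {1, 2, 3, 4}
  have h1' := ne_of_swap h1 h.ix
  have h2' := ne_of_swap h2 h.iy
  have h3' := ne_of_swap h3 h.ix
  have h4' := ne_of_swap h4 h.iy
  have h5' := ne_of_swap h5 h.ix
  have hx : ∀ i, x (E i) = E (px i) := by
    intro i; fin_cases i
    exacts [h1, h1', h3, h3', h5, h5']
  have hy : ∀ i ∈ A, y (E i) = E (py i) := by
    intro i hi; fin_cases hi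
    exacts [h2, h2', h4, h4']
  have hES : ∀ i, E i ∈ S := fun i => h.mem (Or.inl (by
    rw [hx]; exact fun e' => (by decide : ∀ j : Fin 6, px j ≠ j) i (E.injective e')))
  set x' := x * (px * swap 0 5 : Perm (Fin 6)).viaEmbedding E
  set y' := y * py.viaEmbedding E
  have x1 : ∀ i, x' (E i) = E ((swap 0 5 : Perm (Fin 6)) i) := fun i =>
    change_self E (fun j => hx _) (by decide) i
  have x2 : ∀ v, (∀ i, E i ≠ v) → x' v = x v := fun v hv => change_out E x _ hv
  have y1 : ∀ i ∈ A, y' (E i) = E i := by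
    intro i hi
    show y ((py.viaEmbedding E) (E i)) = _
    rw [via_self, hy _ ((by decide : ∀ j ∈ A, py j ∈ A) i hi)]
    exact congrArg E ((by decide : ∀ j, py (py j) = j) i)
  have y0 : ∀ i ∉ A, y' (E i) = y (E i) := by
    intro i hi
    show y ((py.viaEmbedding E) (E i)) = _
    rw [via_self, (by decide : ∀ j ∉ A, py j = j) i hi]
  have y2 : ∀ v, (∀ i, E i ≠ v) → y' v = y v := fun v hv => change_out E y _ hv
  set Q := A.map E with hQ
  have hout : ∀ v ∉ Q, (∀ i, E i ≠ v) ∨ ∃ i ∉ A, E i = v := by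
    intro v hv
    by_cases hh : ∃ i, E i = v
    · obtain ⟨i, hi⟩ := hh
      exact Or.inr ⟨i, fun hA => hv (hi ▸ Finset.mem_map_of_mem E hA), hi⟩
    · exact Or.inl (not_exists.mp hh)
  have hyK : ∀ v ∉ Q, y' v = y v ∧ y v ∉ Q := by
    intro v hv
    refine ⟨?_, fun hmem => ?_⟩
    · rcases hout v hv with hh | ⟨i, hi, rfl⟩
      exacts [y2 v hh, y0 i hi]
    · obtain ⟨i, hi, e'⟩ := Finset.mem_map.mp hmem
      have : y (E i) = v := by rw [e', h.iy]
      rw [hy i hi] at this
      exact hv (this ▸ Finset.mem_map_of_mem E ((by decide : ∀ j ∈ A, py j ∈ A) i hi))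
  obtain ⟨xs, xc⟩ := support_split E (x := x) (x' := x') A
    (fun i hi => ⟨by rw [hx]; exact fun e' => (by decide : ∀ j : Fin 6, px j ≠ j) i (E.injective e'),
      by rw [x1, (by decide : ∀ j ∈ A, (swap 0 5 : Perm (Fin 6)) j = j) i hi]⟩)
    (fun i hi => by
      rw [hx, x1]
      exact ⟨fun e' => absurd (E.injective e') ((by decide : ∀ j : Fin 6, px j ≠ j) i),
        fun e' => absurd (E.injective e') ((by decide : ∀ j ∉ A, (swap 0 5 : Perm (Fin 6)) j ≠ j) i hi)⟩)
    (fun v hv => (x2 v hv).symm)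
  obtain ⟨ys, yc⟩ := support_split E (x := y) (x' := y') A
    (fun i hi => ⟨by rw [hy i hi]; exact fun e' => (by decide : ∀ j ∈ A, py j ≠ j) i hi (E.injective e'), y1 i hi⟩)
    (fun i hi => by rw [y0 i hi])
    (fun v hv => (y2 v hv).symm)
  have hQS : Q ⊆ S := fun v hv => by obtain ⟨i, -, rfl⟩ := Finset.mem_map.mp hv; exact hES i
  have hQc : Q.card = 4 := by rw [hQ, Finset.card_map]; rfl
  have hAc : A.card = 4 := rfl
  have iy' : Inv y' := by
    intro v
    by_cases hv : v ∈ Q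
    · obtain ⟨i, hi, rfl⟩ := Finset.mem_map.mp hv
      rw [y1 i hi, y1 i hi]
    · rw [(hyK v hv).1, (hyK _ (hyK v hv).2).1, h.iy]
  have ix' : Inv x' := by
    intro v
    by_cases hv : ∃ i, E i = v
    · obtain ⟨i, rfl⟩ := hv
      rw [x1, x1, Equiv.swap_apply_self]
    · push Not at hv
      rw [x2 v hv, x2 _ (fun i hi => hv (px i) (by rw [← hx, hi, h.ix])), h.ix]
  have hok : Ok (S \ Q) x' y' := by
    refine ⟨ix', iy', fun v hv => ?_, fun v hv => ?_, by have := h.eq; omega⟩
    · rw [xs] at hv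
      exact Finset.sdiff_subset_sdiff h.sx subset_rfl hv
    · rw [ys] at hv
      exact Finset.sdiff_subset_sdiff h.sy subset_rfl hv
  have hcard : (S \ Q).card + 4 = S.card := by rw [← hQc, Finset.card_sdiff_add_card_eq_card hQS]
  by_cases he : Exc (S \ Q) x' y'
  · -- a single cycle through eight points
    have h0 : E 0 ∈ S \ Q := Finset.mem_sdiff.mpr ⟨hES 0, by rw [hQ, Finset.mem_map']; decide⟩
    obtain ⟨-, hg1, hg2, hg3⟩ := he.shape hok h0
    have hu : x' (E 0) = E 5 := x1 0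
    rw [hu] at hg2 hg3
    set g := y' (E 0) with hg
    have hgR : g ∈ S \ Q := (hok.stable h0).2
    obtain ⟨hh1, -, -, -⟩ := he.shape hok hgR
    have hgn : ∀ i, E i ≠ g := by
      intro i hi
      by_cases hA : i ∈ A
      · exact (Finset.mem_sdiff.mp hgR).2 (hi ▸ Finset.mem_map_of_mem E hA)
      · rcases (by decide : ∀ j ∉ A, j = 0 ∨ j = 5) i hA with rfl | rfl
        exacts [hg1 hi.symm, hg2 hi]
    have hxg : x' g = x g := x2 g hgn
    have hhn : ∀ i, E i ≠ x g := fun i hi => hgn (px i) (by rw [← hx, hi, h.ix])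
    have hya : y a = g := (y0 0 (by decide)).symm
    have hyf : y f = x g := by
      rw [← hxg, hg3, y0 5 (by decide)]
      rfl
    have hn8 : ([a, b, c, d, e, f] ++ [x g, g]).Nodup := by
      rw [List.nodup_append]
      refine ⟨hn, by simp [hxg ▸ hh1], fun u hu w hw e' => ?_⟩
      obtain ⟨i, hi⟩ := List.get_of_mem hu
      have hi' : E i = u := hi
      simp only [List.mem_cons, List.not_mem_nil, or_false] at hw
      rcases hw with rfl | rfl
      exacts [hhn i (hi'.trans e'), hgn i (hi'.trans e')]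
    refine piece_nf (m := 8) h IH hF (by norm_num) (mkEmb _ hn8) (swap 0 1 * swap 2 3 * swap 4 5 * swap 6 7)
      (swap 1 2 * swap 3 4 * swap 5 6 * swap 7 0) (swap 0 1 * swap 3 4 * swap 5 7 * swap 2 6) ?_ ?_ ?_
      (by decide +kernel)
    · intro i; fin_cases i
      exacts [hES 0, hES 1, hES 2, hES 3, hES 4, hES 5,
        (h.stable (Finset.mem_sdiff.mp hgR).1).1, (Finset.mem_sdiff.mp hgR).1]
    · intro i; fin_cases i
      exacts [h1, h1', h3, h3', h5, h5', h.ix g, rfl]
    · intro i; fin_cases i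
      exacts [hya, h2, h2', h4, h4', hyf, ne_of_swap hyf h.iy, ne_of_swap hya h.iy]
  obtain ⟨z', z1, z2, z3, z4, z5⟩ := IH _ x' y' (by omega) hok he
  have zfix : ∀ i ∈ A, z' (E i) = E i := fun i hi => Perm.notMem_support.mp fun hh =>
    (Finset.mem_sdiff.mp (z2 hh)).2 (Finset.mem_map_of_mem E hi)
  have zK : ∀ v ∉ Q, z' v ∉ Q := by
    intro v hv hmem
    obtain ⟨i, hi, e'⟩ := Finset.mem_map.mp hmem
    have : z' (E i) = v := by rw [e', z1]
    rw [zfix i hi] at this
    exact hv (this ▸ Finset.mem_map_of_mem E hi)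
  set z := z' * py.viaEmbedding E
  have w1 : ∀ i ∈ A, z (E i) = E (py i) := by
    intro i hi
    show z' ((py.viaEmbedding E) (E i)) = _
    rw [via_self, zfix _ ((by decide : ∀ j ∈ A, py j ∈ A) i hi)]
  have w0 : ∀ v ∉ Q, z v = z' v := by
    intro v hv
    show z' ((py.viaEmbedding E) v) = _
    rcases hout v hv with hh | ⟨i, hi, rfl⟩
    · rw [via_out E py hh]
    · rw [via_self, (by decide : ∀ j ∉ A, py j = j) i hi]
  obtain ⟨zs1, zs2⟩ := support_split E (x := z) (x' := z') A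
    (fun i hi => ⟨by rw [w1 i hi]; exact fun e' => (by decide : ∀ j ∈ A, py j ≠ j) i hi (E.injective e'),
      zfix i hi⟩)
    (fun i hi => by rw [w0 _ (by rwa [hQ, Finset.mem_map'])])
    (fun v hv => w0 v (fun hm => by obtain ⟨i, -, hi⟩ := Finset.mem_map.mp hm; exact hv i hi))
  refine ⟨z, fun v => ?_, fun v hv => ?_, by omega, ?_, ?_⟩
  · by_cases hv : v ∈ Q
    · obtain ⟨i, hi, rfl⟩ := Finset.mem_map.mp hv
      rw [w1 i hi, w1 _ ((by decide : ∀ j ∈ A, py j ∈ A) i hi)]
      exact congrArg E ((by decide : ∀ j, py (py j) = j) i)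
    · rw [w0 v hv, w0 _ (zK v hv), z1]
  · by_cases hvQ : v ∈ Q
    · exact hQS hvQ
    · exact (Finset.mem_sdiff.mp (z2 (Perm.mem_support.mpr (by rw [← w0 v hvQ]; exact Perm.mem_support.mp hv)))).1
  · have s1 : (x * z) (E 1) = E 3 := by rw [Perm.mul_apply, w1 1 (by decide), hx]; rfl
    have s3 : (x * z) (E 3) = E 5 := by rw [Perm.mul_apply, w1 3 (by decide), hx]; rfl
    have s4 : (x * z) (E 4) = E 2 := by rw [Perm.mul_apply, w1 4 (by decide), hx]; rfl
    have s2 : (x * z) (E 2) = E 0 := by rw [Perm.mul_apply, w1 2 (by decide), hx]; rfl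
    have hxK : ∀ v ∉ Q, x' v ∉ Q := by
      intro v hv hmem
      have := (hok.ix v)
      obtain ⟨i, hi, e'⟩ := Finset.mem_map.mp hmem
      rw [← e', x1, (by decide : ∀ j ∈ A, (swap 0 5 : Perm (Fin 6)) j = j) i hi] at this
      exact hv (this ▸ Finset.mem_map_of_mem E hi)
    refine good_insert Q z4 (fun v hv => hxK _ (zK v hv)) (fun v hv => ?_) (fun v hv => Or.inr ?_)
    · rcases hout _ (zK v hv) with hh | ⟨i, hi, e'⟩
      · exact ⟨1, odd_one, by rw [pow_one, Perm.mul_apply, w0 v hv, Perm.mul_apply, x2 _ hh]⟩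
      · refine ⟨3, by decide, ?_⟩
        have hs : (x * z) v = x (E i) := by rw [Perm.mul_apply, w0 v hv, e']
        rw [Perm.mul_apply, ← e', x1]
        rcases (by decide : ∀ j ∉ A, j = 0 ∨ j = 5) i hi with rfl | rfl
        · rw [hx 0] at hs
          show (x * z) ((x * z) ((x * z) v)) = _
          rw [hs]
          exact (congrArg (x * z) s1).trans s3
        · rw [hx 5] at hs
          show (x * z) ((x * z) ((x * z) v)) = _
          rw [hs]
          exact (congrArg (x * z) s4).trans s2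
    · obtain ⟨i, hi, rfl⟩ := Finset.mem_map.mp hv
      fin_cases hi
      · exact ⟨2, by show (x * z) ((x * z) (E 1)) ∉ Q; rw [s1, s3, hQ, Finset.mem_map']; decide⟩
      · exact ⟨1, by rw [pow_one, s2, hQ, Finset.mem_map']; decide⟩
      · exact ⟨1, by rw [pow_one, s3, hQ, Finset.mem_map']; decide⟩
      · exact ⟨2, by show (x * z) ((x * z) (E 4)) ∉ Q; rw [s4, s2, hQ, Finset.mem_map']; decide⟩
  · refine good_insert Q z5 (fun v hv => ?_) (fun v hv => ⟨1, odd_one, ?_⟩)
      (fun v hv => Or.inl ⟨1, odd_one, ?_⟩)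
    · rw [Perm.mul_apply, (hyK _ (zK v hv)).1]
      exact (hyK _ (zK v hv)).2
    · rw [pow_one, Perm.mul_apply, w0 v hv, Perm.mul_apply, (hyK _ (zK v hv)).1]
    · obtain ⟨i, hi, rfl⟩ := Finset.mem_map.mp hv
      rw [pow_one, Perm.mul_apply, w1 i hi, hy _ ((by decide : ∀ j ∈ A, py j ∈ A) i hi)]
      exact congrArg E ((by decide : ∀ j, py (py j) = j) i)

/-- Absorbing a four-cycle into an edge of a solution on the other points. -/
theorem absorb (h : Ok S x y) {x' y' z' : Perm α} {a b c d : α} (ha : a ∈ S) (hb : b ∈ S) (hc : c ∈ S) (hd : d ∈ S)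
    (h4 : [a, b, c, d].Nodup) (xa : x a = b) (xc : x c = d) (yb : y b = c) (yd : y d = a)
    (hx' : ∀ v, v ∉ [a, b, c, d] → x' v = x v) (hy' : ∀ v, v ∉ [a, b, c, d] → y' v = y v)
    (hcx : x.support.card = x'.support.card + 4) (z1 : Inv z') (z2 : z'.support ⊆ S)
    (z2' : ∀ v ∈ [a, b, c, d], z' v = v) (z3 : z'.support.card = x'.support.card)
    (z4 : Good (x' * z')) (z5 : Good (y' * z')) {u : α} (hu : z' u ≠ u) : Sol S x y := by
  classical
  have hu' : u ∉ [a, b, c, d] := fun hm => hu (z2' u hm)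
  have hv' : z' u ∉ [a, b, c, d] := fun hm => hu ((z1 u).symm.trans (z2' _ hm)).symm
  have hn : [a, b, c, d, u, z' u].Nodup := by
    show ([a, b, c, d] ++ [u, z' u]).Nodup
    rw [List.nodup_append]
    refine ⟨h4, by simp [hu.symm], fun p hp q hq e' => ?_⟩
    simp only [List.mem_cons, List.not_mem_nil, or_false] at hq
    rcases hq with rfl | rfl
    exacts [hu' (e' ▸ hp), hv' (e' ▸ hp)]
  set E : Fin 6 ↪ α := mkEmb [a, b, c, d, u, z' u] hn with hE
  let zE : Perm (Fin 6) := swap 0 2 * swap 1 4 * swap 3 5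
  let zo : Perm (Fin 6) := swap 4 5
  let A : Finset (Fin 6) := {0, 1, 2, 3}
  have hzo : ∀ i, z' (E i) = E (zo i) := by
    intro i; fin_cases i
    exacts [z2' a (by simp), z2' b (by simp), z2' c (by simp), z2' d (by simp), rfl, z1 u]
  set Q := A.map E with hQ
  have hQl : ∀ v, v ∈ Q ↔ v ∈ [a, b, c, d] := by
    intro v
    rw [hQ, Finset.mem_map]
    constructor
    · rintro ⟨i, hi, rfl⟩
      fin_cases hi <;> simp [hE, mkEmb]
    · intro hv
      simp only [List.mem_cons, List.not_mem_nil, or_false] at hv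
      rcases hv with rfl | rfl | rfl | rfl
      exacts [⟨0, by decide, rfl⟩, ⟨1, by decide, rfl⟩, ⟨2, by decide, rfl⟩, ⟨3, by decide, rfl⟩]
  set z := z' * (zo * zE : Perm (Fin 6)).viaEmbedding E
  have w1 : ∀ i, z (E i) = E (zE i) := fun i => change_self E (fun j => hzo _) (by decide) i
  have w2 : ∀ v, (∀ i, E i ≠ v) → z v = z' v := fun v hv => change_out E z' _ hv
  have zout : ∀ v, (∀ i, E i ≠ v) → ∀ i, E i ≠ z' v := fun v hv i hi => hv (zo i) (by rw [← hzo, hi, z1])
  obtain ⟨zs1, zs2⟩ := support_split E (x := z) (x' := z') A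
    (fun i hi => ⟨by rw [w1]; exact fun e' => (by decide : ∀ j, zE j ≠ j) i (E.injective e'),
      by rw [hzo, (by decide : ∀ j ∈ A, zo j = j) i hi]⟩)
    (fun i hi => by
      rw [w1, hzo]
      exact ⟨fun e' => absurd (E.injective e') ((by decide : ∀ j, zE j ≠ j) i),
        fun e' => absurd (E.injective e') ((by decide : ∀ j ∉ A, zo j ≠ j) i hi)⟩)
    (fun v hv => w2 v hv)
  have stab : ∀ w : Perm α, Inv w → w a ∈ [a, b, c, d] → w b ∈ [a, b, c, d] → w c ∈ [a, b, c, d] →
      w d ∈ [a, b, c, d] → ∀ v, v ∉ [a, b, c, d] → w v ∉ [a, b, c, d] := by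
    intro w hw wa wb wc wd v hv hm
    apply hv
    rw [← hw v]
    simp only [List.mem_cons, List.not_mem_nil, or_false] at hm
    rcases hm with e | e | e | e <;> rw [e] <;> assumption
  have xb := ne_of_swap xa h.ix
  have xd := ne_of_swap xc h.ix
  have yc := ne_of_swap yb h.iy
  have ya := ne_of_swap yd h.iy
  have xst := stab x h.ix (by simp [xa]) (by simp [xb]) (by simp [xc]) (by simp [xd])
  have yst := stab y h.iy (by simp [ya]) (by simp [yb]) (by simp [yc]) (by simp [yd])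
  have zK : ∀ v ∉ Q, z' v ∉ Q := by
    intro v hv hm
    rw [hQl] at hv hm
    exact hv (by rw [← z1 v, z2' _ hm]; exact hm)
  refine ⟨z, fun v => ?_, fun v hv => ?_, by have : A.card = 4 := rfl; omega, ?_, ?_⟩
  · by_cases hv : ∃ i, E i = v
    · obtain ⟨i, rfl⟩ := hv
      rw [w1, w1]
      exact congrArg E ((by decide : ∀ j, zE (zE j) = j) i)
    · push Not at hv
      rw [w2 v hv, w2 _ (zout v hv), z1]
  · by_cases hv' : ∃ i, E i = v
    · obtain ⟨i, rfl⟩ := hv'
      have hus : u ∈ S := z2 (Perm.mem_support.mpr hu)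
      have hvs : z' u ∈ S := z2 (Perm.mem_support.mpr (by rw [z1]; exact hu.symm))
      fin_cases i <;> assumption
    · push Not at hv'
      exact z2 (Perm.mem_support.mpr (by rw [← w2 v hv']; exact Perm.mem_support.mp hv))
  all_goals
    have hcase : ∀ v ∉ Q, (∀ i, E i ≠ v) ∨ v = E 4 ∨ v = E 5 := by
      intro v hv
      by_cases hh : ∃ i, E i = v
      · obtain ⟨i, rfl⟩ := hh
        rw [hQ, Finset.mem_map'] at hv
        rcases (by decide : ∀ j ∉ A, j = 4 ∨ j = 5) i hv with rfl | rfl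
        exacts [Or.inr (Or.inl rfl), Or.inr (Or.inr rfl)]
      · exact Or.inl (not_exists.mp hh)
  · have s0 : (x * z) (E 0) = E 3 := by rw [Perm.mul_apply, w1]; exact xc
    have s2 : (x * z) (E 2) = E 1 := by rw [Perm.mul_apply, w1]; exact xa
    have s1 : (x * z) (E 1) = x (E 4) := by rw [Perm.mul_apply, w1]; rfl
    have s3 : (x * z) (E 3) = x (E 5) := by rw [Perm.mul_apply, w1]; rfl
    have s4 : (x * z) (E 4) = E 0 := by rw [Perm.mul_apply, w1]; exact xb
    have s5 : (x * z) (E 5) = E 2 := by rw [Perm.mul_apply, w1]; exact xd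
    refine good_insert Q z4 (fun v hv => ?_) (fun v hv => ?_) (fun v hv => Or.inr ?_)
    · have h5 := zK v hv
      rw [hQl] at h5 ⊢
      rw [Perm.mul_apply, hx' _ h5]
      exact xst _ h5
    · have h5 := zK v hv
      rw [hQl] at h5
      rcases hcase v hv with hh | rfl | rfl
      · exact ⟨1, odd_one, by rw [pow_one, Perm.mul_apply, w2 v hh, Perm.mul_apply, hx' _ h5]⟩
      · refine ⟨3, by decide, ?_⟩
        show (x * z) ((x * z) ((x * z) (E 4))) = _
        rw [s4, s0, s3, Perm.mul_apply, hx' _ h5]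
        exact congrArg x (hzo 4).symm
      · refine ⟨3, by decide, ?_⟩
        show (x * z) ((x * z) ((x * z) (E 5))) = _
        rw [s5, s2, s1, Perm.mul_apply, hx' _ h5]
        exact congrArg x (hzo 5).symm
    · have o4 : x (E 4) ∉ Q := by rw [hQl]; exact xst _ hu'
      have o5 : x (E 5) ∉ Q := by rw [hQl]; exact xst _ hv'
      obtain ⟨i, hi, rfl⟩ := Finset.mem_map.mp hv
      fin_cases hi
      · exact ⟨2, by show (x * z) ((x * z) (E 0)) ∉ Q; rw [s0, s3]; exact o5⟩
      · exact ⟨1, by rw [pow_one, s1]; exact o4⟩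
      · exact ⟨2, by show (x * z) ((x * z) (E 2)) ∉ Q; rw [s2, s1]; exact o4⟩
      · exact ⟨1, by rw [pow_one, s3]; exact o5⟩
  · have s0 : (y * z) (E 0) = E 1 := by rw [Perm.mul_apply, w1]; exact yc
    have s2 : (y * z) (E 2) = E 3 := by rw [Perm.mul_apply, w1]; exact ya
    have s1 : (y * z) (E 1) = y (E 4) := by rw [Perm.mul_apply, w1]; rfl
    have s3 : (y * z) (E 3) = y (E 5) := by rw [Perm.mul_apply, w1]; rfl
    have s4 : (y * z) (E 4) = E 2 := by rw [Perm.mul_apply, w1]; exact yb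
    have s5 : (y * z) (E 5) = E 0 := by rw [Perm.mul_apply, w1]; exact yd
    refine good_insert Q z5 (fun v hv => ?_) (fun v hv => ?_) (fun v hv => Or.inr ?_)
    · have h5 := zK v hv
      rw [hQl] at h5 ⊢
      rw [Perm.mul_apply, hy' _ h5]
      exact yst _ h5
    · have h5 := zK v hv
      rw [hQl] at h5
      rcases hcase v hv with hh | rfl | rfl
      · exact ⟨1, odd_one, by rw [pow_one, Perm.mul_apply, w2 v hh, Perm.mul_apply, hy' _ h5]⟩
      · refine ⟨3, by decide, ?_⟩
        show (y * z) ((y * z) ((y * z) (E 4))) = _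
        rw [s4, s2, s3, Perm.mul_apply, hy' _ h5]
        exact congrArg y (hzo 4).symm
      · refine ⟨3, by decide, ?_⟩
        show (y * z) ((y * z) ((y * z) (E 5))) = _
        rw [s5, s0, s1, Perm.mul_apply, hy' _ h5]
        exact congrArg y (hzo 5).symm
    · have o4 : y (E 4) ∉ Q := by rw [hQl]; exact yst _ hu'
      have o5 : y (E 5) ∉ Q := by rw [hQl]; exact yst _ hv'
      obtain ⟨i, hi, rfl⟩ := Finset.mem_map.mp hv
      fin_cases hi
      · exact ⟨2, by show (y * z) ((y * z) (E 0)) ∉ Q; rw [s0, s1]; exact o4⟩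
      · exact ⟨1, by rw [pow_one, s1]; exact o4⟩
      · exact ⟨2, by show (y * z) ((y * z) (E 2)) ∉ Q; rw [s2, s3]; exact o5⟩
      · exact ⟨1, by rw [pow_one, s3]; exact o5⟩

end CfsgLib.OddProd
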