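import Mathlib.GroupTheory.Perm.ViaEmbedding
import Mathlib.GroupTheory.Perm.Support
import Mathlib.GroupTheory.OrderOfElement

/-!
Two involutions with equally large supports have a common involution at odd product distance.
-/

set_option autoImplicit false
set_option linter.unusedSectionVars false

namespace CfsgLib.OddProd

open Equiv

variable {α : Type*} [Fintype α] [DecidableEq α]

/-- An involutive permutation. -/
def Inv (x : Perm α) : Prop := ∀ v, x (x v) = v

/-- All cycles have odd length. -/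
def Good (σ : Perm α) : Prop := ∀ v, ∃ j, Odd j ∧ (σ ^ j) v = v

theorem pow_mul_fix {σ : Perm α} {v : α} {j : ℕ} (h : (σ ^ j) v = v) (i : ℕ) : (σ ^ (j * i)) v = v := by
  induction i with
  | zero => simp
  | succ i ih => rw [Nat.mul_succ, pow_add, Perm.mul_apply, h, ih]

theorem Good.odd_order {σ : Perm α} (h : Good σ) : Odd (orderOf σ) := by
  choose j hj hfix using h
  have hM : Odd (∏ v : α, j v) := by
    have : ∀ s : Finset α, Odd (∏ v ∈ s, j v) := by
      intro s
      induction s using Finset.induction_on with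
      | empty => simp
      | @insert a s ha ih => rw [Finset.prod_insert ha]; exact (hj a).mul ih
    exact this Finset.univ
  have h1 : σ ^ (∏ v : α, j v) = 1 := by
    ext v
    obtain ⟨i, hi⟩ := Finset.dvd_prod_of_mem j (Finset.mem_univ v)
    rw [hi, pow_mul_fix (hfix v)]
    rfl
  exact hM.of_dvd_nat (orderOf_dvd_of_pow_eq_one h1)

theorem good_insert {σ τ : Perm α} (Q : Finset α) (hτ : Good τ) (hK : ∀ v ∉ Q, τ v ∉ Q)
    (h1 : ∀ v ∉ Q, ∃ j, Odd j ∧ (σ ^ j) v = τ v)
    (h2 : ∀ v ∈ Q, (∃ j, Odd j ∧ (σ ^ j) v = v) ∨ ∃ i : ℕ, (σ ^ i) v ∉ Q) : Good σ := by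
  have it : ∀ m : ℕ, ∀ v ∉ Q, (τ ^ m) v ∉ Q ∧ ∃ J, J % 2 = m % 2 ∧ (σ ^ J) v = (τ ^ m) v := by
    intro m
    induction m with
    | zero => exact fun v hv => ⟨by simpa using hv, 0, rfl, rfl⟩
    | succ m ih =>
      intro v hv
      obtain ⟨hm, J, hJ, hJv⟩ := ih v hv
      obtain ⟨j, hj, hjv⟩ := h1 _ hm
      rw [pow_succ', Perm.mul_apply]
      refine ⟨hK _ hm, j + J, ?_, by rw [pow_add, Perm.mul_apply, hJv, hjv]⟩
      rw [Nat.odd_iff] at hj
      omega
  have key : ∀ v ∉ Q, ∃ j, Odd j ∧ (σ ^ j) v = v := by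
    intro v hv
    obtain ⟨m, hm, hmv⟩ := hτ v
    obtain ⟨-, J, hJ, hJv⟩ := it m v hv
    rw [Nat.odd_iff] at hm
    exact ⟨J, Nat.odd_iff.mpr (by omega), hJv.trans hmv⟩
  intro v
  by_cases hv : v ∈ Q
  · rcases h2 v hv with h | ⟨i, hi⟩
    · exact h
    · obtain ⟨j, hj, hjv⟩ := key _ hi
      refine ⟨j, hj, (σ ^ i).injective ?_⟩
      rw [← Perm.mul_apply, ← pow_add, add_comm, pow_add, Perm.mul_apply, hjv]
  · exact key v hv

/-- The problem on an invariant set of points. -/
def Sol (S : Finset α) (x y : Perm α) : Prop :=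
  ∃ z : Perm α, Inv z ∧ z.support ⊆ S ∧ z.support.card = x.support.card ∧ Good (x * z) ∧ Good (y * z)

/-- The exceptional configuration. -/
def Exc (S : Finset α) (x y : Perm α) : Prop := S.card = 4 ∧ x.support.card = 4 ∧ x ≠ y

/-- The hypotheses. -/
structure Ok (S : Finset α) (x y : Perm α) : Prop where
  ix : Inv x
  iy : Inv y
  sx : x.support ⊆ S
  sy : y.support ⊆ S
  eq : x.support.card = y.support.card

theorem Ok.symm {S : Finset α} {x y : Perm α} (h : Ok S x y) : Ok S y x :=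
  ⟨h.iy, h.ix, h.sy, h.sx, h.eq.symm⟩

theorem Sol.symm {S : Finset α} {x y : Perm α} (h : Ok S x y) (hs : Sol S y x) : Sol S x y := by
  obtain ⟨z, h1, h2, h3, h4, h5⟩ := hs
  exact ⟨z, h1, h2, h3.trans h.eq.symm, h5, h4⟩

theorem Ok.mem {S : Finset α} {x y : Perm α} (h : Ok S x y) {v : α} (hv : x v ≠ v ∨ y v ≠ v) : v ∈ S := by
  rcases hv with hv | hv
  · exact h.sx (Perm.mem_support.mpr hv)
  · exact h.sy (Perm.mem_support.mpr hv)

theorem Ok.stable {S : Finset α} {x y : Perm α} (h : Ok S x y) {v : α} (hv : v ∈ S) : x v ∈ S ∧ y v ∈ S := by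
  constructor
  · by_cases e : x v = v
    · rwa [e]
    · exact h.mem (Or.inl fun e' => e ((h.ix v).symm.trans e').symm)
  · by_cases e : y v = v
    · rwa [e]
    · exact h.mem (Or.inr fun e' => e ((h.iy v).symm.trans e').symm)

/-- In the exceptional configuration the two involutions form one four-cycle. -/
theorem Exc.shape {S : Finset α} {x y : Perm α} (h : Ok S x y) (he : Exc S x y) {a : α} (ha : a ∈ S) :
    x a ≠ a ∧ y a ≠ a ∧ x a ≠ y a ∧ x (y a) = y (x a) := by
  obtain ⟨hS, hx, hne⟩ := he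
  have hxS : x.support = S := Finset.eq_of_subset_of_card_le h.sx (by omega)
  have hyS : y.support = S := Finset.eq_of_subset_of_card_le h.sy (by rw [← h.eq]; omega)
  have mx : ∀ v ∈ S, x v ≠ v := fun v hv => Perm.mem_support.mp (hxS ▸ hv)
  have my : ∀ v ∈ S, y v ≠ v := fun v hv => Perm.mem_support.mp (hyS ▸ hv)
  have three : ∀ a b c p q : α, a ∈ S → b ∈ S → c ∈ S → a ≠ b → a ≠ c → b ≠ c → p ∈ S → q ∈ S →
      p ≠ a → p ≠ b → p ≠ c → q ≠ a → q ≠ b → q ≠ c → p = q := by
    intro a b c p q ha hb hc hab hac hbc hp hq p1 p2 p3 q1 q2 q3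
    have hcard : (S \ {a, b, c}).card ≤ 1 := by
      rw [Finset.card_sdiff_of_subset (by intro v; simp; rintro (rfl | rfl | rfl) <;> assumption)]
      rw [Finset.card_insert_of_notMem (by simp [hab, hac]), Finset.card_pair hbc]
      omega
    exact Finset.card_le_one.mp hcard p (by simp [hp, p1, p2, p3]) q (by simp [hq, q1, q2, q3])
  have hne' : ∀ v ∈ S, x v ≠ y v := by
    intro v hv e
    apply hne
    ext w
    by_cases hw : w ∈ S
    · by_cases h1 : w = v
      · rw [h1, e]
      by_cases h2 : w = x v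
      · rw [h2, h.ix]
        conv_rhs => rw [e, h.iy]
      refine three v (x v) w (x w) (y w) hv (h.stable hv).1 hw (mx v hv).symm (Ne.symm h1) (Ne.symm h2)
        (h.stable hw).1 (h.stable hw).2 ?_ ?_ (mx w hw) ?_ ?_ (my w hw)
      · intro e1; exact h2 (by rw [← e1, h.ix])
      · intro e1; exact h1 (x.injective e1)
      · intro e1; exact h2 (by rw [e, ← e1, h.iy])
      · intro e1; exact h1 (y.injective (e1.trans e))
    · rw [Perm.notMem_support.mp (hxS ▸ hw), Perm.notMem_support.mp (hyS ▸ hw)]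
  obtain ⟨hb, hd⟩ := h.stable ha
  refine ⟨mx a ha, my a ha, hne' a ha, three a (x a) (y a) _ _ ha hb hd (mx a ha).symm (my a ha).symm
    (hne' a ha) (h.stable hd).1 (h.stable hb).2 ?_ ?_ ?_ ?_ ?_ ?_⟩
  · intro e; exact hne' a ha (by rw [← h.ix (y a), e])
  · intro e; exact my a ha (x.injective e)
  · exact mx _ hd
  · intro e; exact hne' a ha (by rw [← h.iy (x a), e])
  · exact my _ hb
  · intro e; exact mx a ha (y.injective e)

section Embedding

variable {m : ℕ} (e : Fin m ↪ α)

theorem via_self (P : Perm (Fin m)) (i : Fin m) : P.viaEmbedding e (e i) = e (P i) :=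
  Perm.viaEmbedding_apply P e i

theorem via_out (P : Perm (Fin m)) {v : α} (hv : ∀ i, e i ≠ v) : P.viaEmbedding e v = v :=
  Perm.viaEmbedding_apply_of_notMem P e v (by rintro ⟨i, hi⟩; exact hv i hi)

theorem not_range {v : α} (hv : v ∉ Finset.univ.map e) (i : Fin m) : e i ≠ v := fun h =>
  hv (by rw [← h]; simp)

theorem pow_via {σ : Perm α} {P : Perm (Fin m)} (h : ∀ i, σ (e i) = e (P i)) (k : ℕ) (i : Fin m) :
    (σ ^ k) (e i) = e ((P ^ k) i) := by
  induction k with
  | zero => rfl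
  | succ k ih => rw [pow_succ', Perm.mul_apply, ih, h, pow_succ', Perm.mul_apply]

/-- Changing a permutation on the image of an embedding. -/
theorem change_self {x : Perm α} {p P q : Perm (Fin m)} (h : ∀ i, x (e (P i)) = e (p (P i)))
    (hq : p * P = q) (i : Fin m) : (x * P.viaEmbedding e) (e i) = e (q i) := by
  rw [Perm.mul_apply, via_self, h, ← hq, Perm.mul_apply]

theorem change_out (x : Perm α) (P : Perm (Fin m)) {v : α} (hv : ∀ i, e i ≠ v) :
    (x * P.viaEmbedding e) v = x v := by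
  rw [Perm.mul_apply, via_out e P hv]

theorem support_split {x x' : Perm α} (A : Finset (Fin m)) (hA : ∀ i, (i ∈ A → x (e i) ≠ e i ∧ x' (e i) = e i))
    (hB : ∀ i, i ∉ A → (x (e i) = e i ↔ x' (e i) = e i)) (hC : ∀ v, (∀ i, e i ≠ v) → x v = x' v) :
    x'.support = x.support \ A.map e ∧ x.support.card = x'.support.card + A.card := by
  have h1 : x'.support = x.support \ A.map e := by
    ext v
    simp only [Finset.mem_sdiff, Perm.mem_support, Finset.mem_map]
    by_cases hv : ∃ i, e i = v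
    · obtain ⟨i, rfl⟩ := hv
      by_cases hi : i ∈ A
      · exact ⟨fun h => absurd (hA i hi).2 h, fun h => absurd ⟨i, hi, rfl⟩ h.2⟩
      · simp [hB i hi, hi]
    · push Not at hv
      rw [hC v hv]
      exact ⟨fun h => ⟨h, fun ⟨i, _, hi⟩ => hv i hi⟩, fun h => h.1⟩
  refine ⟨h1, ?_⟩
  rw [h1, ← Finset.card_map e (s := A)]
  refine (Finset.card_sdiff_add_card_eq_card ?_).symm
  intro v hv
  obtain ⟨i, hi, rfl⟩ := Finset.mem_map.mp hv
  exact Perm.mem_support.mpr (hA i hi).1

end Embedding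

/-- The decidable requirement on a piece. -/
abbrev Local {m : ℕ} (px py pz : Perm (Fin m)) : Prop :=
  pz * pz = 1 ∧ px.support.card = pz.support.card ∧ py.support.card = pz.support.card ∧
    (px * pz) ^ 15 = 1 ∧ (py * pz) ^ 15 = 1

/-- Splitting off an invariant piece. -/
theorem piece {S : Finset α} {x y : Perm α} (h : Ok S x y)
    (IH : ∀ (S' : Finset α) (x' y' : Perm α), S'.card < S.card → Ok S' x' y' → ¬ Exc S' x' y' → Sol S' x' y')
    {m : ℕ} (hm : 0 < m) (e : Fin m ↪ α) (px py pz : Perm (Fin m)) (hS : ∀ i, e i ∈ S)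
    (hx : ∀ i, x (e i) = e (px i)) (hy : ∀ i, y (e i) = e (py i)) (hloc : Local px py pz)
    (hexc : ∀ (S' : Finset α) (x' y' : Perm α), Ok S' x' y' → (∀ v ∈ S', x' v = x v ∧ y' v = y v) →
      S'.card + m = S.card → x'.support.card + px.support.card = x.support.card → ¬ Exc S' x' y') :
    Sol S x y := by
  classical
  obtain ⟨hz2, hcx, hcy, hgx, hgy⟩ := hloc
  have out : ∀ (w : Perm α) (p : Perm (Fin m)), Inv w → (∀ i, w (e i) = e (p i)) →
      ∀ v, (∀ i, e i ≠ v) → ∀ i, e i ≠ w v := by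
    intro w p hw hp v hv i hi
    exact hv (p i) (by rw [← hp, hi, hw])
  have main : ∀ (w : Perm α) (p : Perm (Fin m)), Inv w → (∀ i, w (e i) = e (p i)) →
      ∃ w' : Perm α, (∀ i, w' (e i) = e i) ∧ (∀ v, (∀ i, e i ≠ v) → w' v = w v) ∧ Inv w' ∧
        w'.support = w.support \ (p.support.map e) ∧ w.support.card = w'.support.card + p.support.card := by
    intro w p hw hp
    have hp2 : p * p = 1 := Equiv.ext fun i => e.injective (by rw [Perm.mul_apply, ← hp, ← hp, hw]; rfl)
    have h1 : ∀ i, (w * p.viaEmbedding e) (e i) = e i := fun i =>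
      change_self e (fun j => hp (p j)) hp2 i
    have h2 : ∀ v, (∀ i, e i ≠ v) → (w * p.viaEmbedding e) v = w v := fun v hv => change_out e w p hv
    refine ⟨_, h1, h2, fun v => ?_, support_split e p.support (fun i hi => ⟨?_, h1 i⟩) (fun i hi => ?_)
      (fun v hv => (h2 v hv).symm)⟩
    · by_cases hv : ∃ i, e i = v
      · obtain ⟨i, rfl⟩ := hv
        rw [h1, h1]
      · push Not at hv
        rw [h2 v hv, h2 _ (out w p hw hp v hv), hw]
    · rw [hp]; exact fun e' => Perm.mem_support.mp hi (e.injective e')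
    · rw [hp, h1, Perm.notMem_support.mp hi]
  obtain ⟨x', x1, x2, x3, x4, x5⟩ := main x px h.ix hx
  obtain ⟨y', y1, y2, y3, y4, y5⟩ := main y py h.iy hy
  set T := Finset.univ.map e with hT
  have hTS : T ⊆ S := fun v hv => by obtain ⟨i, -, rfl⟩ := Finset.mem_map.mp hv; exact hS i
  have hout : ∀ v ∈ S \ T, ∀ i, e i ≠ v := fun v hv => not_range e (Finset.mem_sdiff.mp hv).2
  have hok : Ok (S \ T) x' y' := by
    refine ⟨x3, y3, fun v hv => ?_, fun v hv => ?_, ?_⟩
    · refine Finset.mem_sdiff.mpr ⟨h.sx (Finset.mem_sdiff.mp (x4 ▸ hv)).1, fun hvT => ?_⟩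
      obtain ⟨i, -, rfl⟩ := Finset.mem_map.mp hvT
      exact Perm.mem_support.mp hv (x1 i)
    · refine Finset.mem_sdiff.mpr ⟨h.sy (Finset.mem_sdiff.mp (y4 ▸ hv)).1, fun hvT => ?_⟩
      obtain ⟨i, -, rfl⟩ := Finset.mem_map.mp hvT
      exact Perm.mem_support.mp hv (y1 i)
    · have := h.eq
      omega
  have hcard : (S \ T).card + m = S.card := by
    have := Finset.card_sdiff_add_card_eq_card hTS
    rw [hT, Finset.card_map, Finset.card_univ, Fintype.card_fin] at this
    exact this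
  obtain ⟨z', z1, z2, z3, z4, z5⟩ := IH _ x' y' (by omega) hok (hexc _ _ _ hok
    (fun v hv => ⟨x2 v (hout v hv), y2 v (hout v hv)⟩) hcard (by omega))
  have zfix : ∀ i, z' (e i) = e i := fun i => Perm.notMem_support.mp fun hi =>
    (Finset.mem_sdiff.mp (z2 hi)).2 (by simp [hT])
  have zout : ∀ v, (∀ i, e i ≠ v) → ∀ i, e i ≠ z' v := fun v hv i hi => hv i (by
    rw [← z1 v, ← hi, zfix])
  have w1 : ∀ i, (z' * pz.viaEmbedding e) (e i) = e (pz i) := fun i =>
    change_self e (p := 1) (fun j => by rw [zfix]; rfl) (one_mul pz) i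
  have w2 : ∀ v, (∀ i, e i ≠ v) → (z' * pz.viaEmbedding e) v = z' v := fun v hv => change_out e z' pz hv
  set z := z' * pz.viaEmbedding e
  obtain ⟨zs1, zs2⟩ := support_split e (x := z) (x' := z') pz.support
    (fun i hi => ⟨by rw [w1]; exact fun e' => Perm.mem_support.mp hi (e.injective e'), zfix i⟩)
    (fun i hi => by rw [w1, zfix, Perm.notMem_support.mp hi]) (fun v hv => w2 v hv)
  have good : ∀ (w w' : Perm α) (p : Perm (Fin m)), (∀ i, w (e i) = e (p i)) →
      (∀ v, (∀ i, e i ≠ v) → w' v = w v) → (∀ i, w' (e i) = e i) → (p * pz) ^ 15 = 1 → Good (w' * z') →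
      Good (w * z) := by
    intro w w' p hp hw' hw'' h15 hg
    refine good_insert T hg (fun v hv hmem => ?_) (fun v hv => ⟨1, odd_one, ?_⟩) (fun v hv => Or.inl ?_)
    · obtain ⟨i, -, hi⟩ := Finset.mem_map.mp hmem
      rw [Perm.mul_apply] at hi
      exact zout v (not_range e hv) i (w'.injective ((hw'' i).trans hi))
    · rw [pow_one, Perm.mul_apply, w2 v (not_range e hv), Perm.mul_apply, hw' _ (zout v (not_range e hv))]
    · obtain ⟨i, -, rfl⟩ := Finset.mem_map.mp hv
      refine ⟨15, by decide, ?_⟩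
      rw [pow_via e (P := p * pz) (fun j => by rw [Perm.mul_apply, w1, hp, Perm.mul_apply]), h15]
      rfl
  refine ⟨z, fun v => ?_, fun v hv => ?_, ?_, good x x' px hx x2 x1 hgx z4, good y y' py hy y2 y1 hgy z5⟩
  · by_cases hv : ∃ i, e i = v
    · obtain ⟨i, rfl⟩ := hv
      rw [w1, w1, ← Perm.mul_apply, hz2]
      rfl
    · push Not at hv
      rw [w2 v hv, w2 _ (zout v hv), z1]
  · by_cases hvT : v ∈ T
    · exact hTS hvT
    · refine (Finset.mem_sdiff.mp (z2 (Perm.mem_support.mpr ?_))).1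
      rw [← w2 v (not_range e hvT)]
      exact Perm.mem_support.mp hv
  · omega

end CfsgLib.OddProd
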