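import Cfsg.Agent.Lib.OddProd.Cases

/-!
The existence of a common neighbour.
-/

set_option autoImplicit false
set_option linter.unusedSectionVars false

namespace CfsgLib.OddProd

open Equiv

variable {α : Type*} [Fintype α] [DecidableEq α] {S : Finset α} {x y : Perm α}

theorem four_case (h : Ok S x y) (IH : Rec S) (hS : ¬ Exc S x y) (hF : Four x y) : Sol S x y := by
  classical
  obtain ⟨a, hb0, hd0, hbd, hcc⟩ := hF
  set b := x a with hb
  set d := y a with hd
  set c := y b with hc
  have xa : x a = b := rfl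
  have yb : y b = c := rfl
  have xb : x b = a := h.ix a
  have yd : y d = a := h.iy a
  have xd : x d = c := hcc
  have xc : x c = d := ne_of_swap xd h.ix
  have yc : y c = b := h.iy b
  have h4 : [a, b, c, d].Nodup := by
    have e1 : c ≠ a := fun e => hbd (by rw [← h.iy b, ← hc, e])
    have e2 : c ≠ b := fun e => by
      refine hd0 (?_ : d = a)
      rw [← h.ix d, xd, e, xb]
    have e3 : c ≠ d := fun e => hb0 (y.injective (by rw [← hc, e]))
    simp only [List.nodup_cons, List.mem_cons, List.not_mem_nil, or_false, not_or, not_false_eq_true,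
      List.nodup_nil, and_true]
    exact ⟨⟨hb0.symm, e1.symm, hd0.symm⟩, ⟨e2.symm, hbd⟩, e3⟩
  set E : Fin 4 ↪ α := mkEmb _ h4 with hE
  let px : Perm (Fin 4) := swap 0 1 * swap 2 3
  let py : Perm (Fin 4) := swap 1 2 * swap 3 0
  have haS : a ∈ S := h.mem (Or.inl hb0)
  have hbS : b ∈ S := (h.stable haS).1
  have hdS : d ∈ S := (h.stable haS).2
  have hcS : c ∈ S := (h.stable hbS).2
  have hES : ∀ i, E i ∈ S := by intro i; fin_cases i <;> assumption
  have hx : ∀ i, x (E i) = E (px i) := by intro i; fin_cases i; exacts [xa, xb, xc, xd]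
  have hy : ∀ i, y (E i) = E (py i) := by intro i; fin_cases i; exacts [rfl, yb, yc, yd]
  set Q := Finset.univ.map E with hQ
  have hmem : ∀ v, v ∈ Q ↔ v ∈ [a, b, c, d] := by
    intro v
    simp only [hQ, Finset.mem_map, Finset.mem_univ, true_and, List.mem_cons, List.not_mem_nil, or_false]
    constructor
    · rintro ⟨i, rfl⟩; fin_cases i <;> simp [hE, mkEmb]
    · rintro (rfl | rfl | rfl | rfl)
      exacts [⟨0, rfl⟩, ⟨1, rfl⟩, ⟨2, rfl⟩, ⟨3, rfl⟩]
  have main : ∀ (w : Perm α) (p : Perm (Fin 4)), Inv w → (∀ i, w (E i) = E (p i)) → (∀ i, p i ≠ i) →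
      (∀ i, p (p i) = i) →
      ∃ w' : Perm α, (∀ v, v ∉ Q → w' v = w v) ∧ Inv w' ∧ w'.support = w.support \ Q ∧
        w.support.card = w'.support.card + 4 := by
    intro w p hw hp hfree hp2
    have h1 : ∀ i, (w * p.viaEmbedding E) (E i) = E i := fun i =>
      change_self E (fun j => hp (p j)) (show p * p = 1 from Equiv.ext fun j => hp2 j) i
    have h2 : ∀ v, (∀ i, E i ≠ v) → (w * p.viaEmbedding E) v = w v := fun v hv => change_out E w p hv
    obtain ⟨s1, s2⟩ := support_split E (x := w) (x' := w * p.viaEmbedding E) Finset.univ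
      (fun i _ => ⟨by rw [hp]; exact fun e => hfree i (E.injective e), h1 i⟩)
      (fun i hi => absurd (Finset.mem_univ i) hi) (fun v hv => (h2 v hv).symm)
    refine ⟨_, fun v hv => h2 v (not_range E hv), fun v => ?_, s1, s2⟩
    by_cases hv : v ∈ Q
    · obtain ⟨i, -, rfl⟩ := Finset.mem_map.mp hv
      rw [h1, h1]
    · rw [h2 v (not_range E hv), h2 _ (fun i hi => not_range E hv (p i) (by rw [← hp, hi, hw])), hw]
  obtain ⟨x', x1, x2, x3, x4⟩ := main x px h.ix hx (by decide) (by decide)
  obtain ⟨y', y1, y2, y3, y4⟩ := main y py h.iy hy (by decide) (by decide)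
  have hQS : Q ⊆ S := fun v hv => by obtain ⟨i, -, rfl⟩ := Finset.mem_map.mp hv; exact hES i
  have hQc : Q.card = 4 := by rw [hQ, Finset.card_map]; rfl
  have hok : Ok (S \ Q) x' y' :=
    ⟨x2, y2, x3 ▸ Finset.sdiff_subset_sdiff h.sx subset_rfl, y3 ▸ Finset.sdiff_subset_sdiff h.sy subset_rfl,
      by have := h.eq; omega⟩
  have hcard : (S \ Q).card + 4 = S.card := by rw [← hQc, Finset.card_sdiff_add_card_eq_card hQS]
  by_cases he : Exc (S \ Q) x' y'
  · -- two four-cycles
    obtain ⟨a', ha'⟩ : (S \ Q).Nonempty := Finset.card_pos.mp (by rw [he.1]; norm_num)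
    obtain ⟨g1, g2, g3, g4⟩ := he.shape hok ha'
    obtain ⟨hb', hd'⟩ := hok.stable ha'
    obtain ⟨f1, f2, f3, -⟩ := he.shape hok hb'
    have hc' := (hok.stable hb').2
    have agx : ∀ v ∈ S \ Q, x' v = x v := fun v hv => x1 v (Finset.mem_sdiff.mp hv).2
    have agy : ∀ v ∈ S \ Q, y' v = y v := fun v hv => y1 v (Finset.mem_sdiff.mp hv).2
    have hn8 : ([a, b, c, d] ++ [a', x' a', y' (x' a'), y' a']).Nodup := by
      rw [List.nodup_append]
      refine ⟨h4, ?_, fun u hu w hw e => ?_⟩
      · simp only [List.nodup_cons, List.mem_cons, List.not_mem_nil, or_false, not_or, not_false_eq_true,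
          List.nodup_nil, and_true]
        refine ⟨⟨g1.symm, ?_, g2.symm⟩, ⟨f2.symm, g3⟩, fun e => g1 (y'.injective e)⟩
        intro e
        rw [hok.ix] at f3
        exact f3 e
      · have h5 : w ∈ S \ Q := by
          simp only [List.mem_cons, List.not_mem_nil, or_false] at hw
          rcases hw with rfl | rfl | rfl | rfl
          exacts [ha', hb', hc', hd']
        exact (Finset.mem_sdiff.mp h5).2 ((hmem w).mpr (e ▸ hu))
    refine piece (m := 8) h IH (by norm_num) (mkEmb _ hn8) (swap 0 1 * swap 2 3 * swap 4 5 * swap 6 7)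
      (swap 1 2 * swap 3 0 * swap 5 6 * swap 7 4) (swap 0 1 * swap 2 4 * swap 3 7 * swap 5 6) ?_ ?_ ?_
      (by decide +kernel) ?_
    · intro i; fin_cases i
      exacts [haS, hbS, hcS, hdS, (Finset.mem_sdiff.mp ha').1, (Finset.mem_sdiff.mp hb').1,
        (Finset.mem_sdiff.mp hc').1, (Finset.mem_sdiff.mp hd').1]
    · intro i; fin_cases i
      exacts [xa, xb, xc, xd, (agx _ ha').symm, (agx _ hb').symm.trans (hok.ix a'),
        (agx _ hc').symm.trans (ne_of_swap g4 hok.ix), (agx _ hd').symm.trans g4]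
    · intro i; fin_cases i
      exacts [rfl, yb, yc, yd, (agy _ ha').symm, (agy _ hb').symm, (agy _ hc').symm.trans (hok.iy _),
        (agy _ hd').symm.trans (hok.iy a')]
    · intro S' x'' y'' _ _ hc8 _ he'
      have := he'.1
      have := he.1
      omega
  obtain ⟨z', z1, z2, z3, z4, z5⟩ := IH _ x' y' (by omega) hok he
  by_cases hz : ∃ u, z' u ≠ u
  · obtain ⟨u, hu⟩ := hz
    refine absorb h haS hbS hcS hdS h4 xa xc yb yd (fun v hv => x1 v (fun hm => hv ((hmem v).mp hm)))
      (fun v hv => y1 v (fun hm => hv ((hmem v).mp hm))) x4 z1 (fun v hv => (Finset.mem_sdiff.mp (z2 hv)).1)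
      (fun v hv => Perm.notMem_support.mp fun hs => (Finset.mem_sdiff.mp (z2 hs)).2 ((hmem v).mpr hv))
      z3 z4 z5 hu
  · push Not at hz
    have hk : x'.support.card = 0 := by
      rw [← z3, Finset.card_eq_zero]
      ext v; simp [hz v]
    have hne : x ≠ y := fun e => hbd (by rw [hb, hd, e])
    have hS4 : S.card ≠ 4 := fun e => hS ⟨e, by omega, hne⟩
    obtain ⟨e, he'⟩ : (S \ Q).Nonempty := Finset.card_pos.mp (by omega)
    have heq : x e = e ∧ y e = e := by
      have hk' : y'.support.card = 0 := by rw [← hok.eq, hk]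
      rw [Finset.card_eq_zero] at hk hk'
      exact ⟨(x1 e (Finset.mem_sdiff.mp he').2).symm.trans (Perm.notMem_support.mp (by rw [hk]; simp)),
        (y1 e (Finset.mem_sdiff.mp he').2).symm.trans (Perm.notMem_support.mp (by rw [hk']; simp))⟩
    have hn5 : ([a, b, c, d] ++ [e]).Nodup := by
      rw [List.nodup_append]
      refine ⟨h4, by simp, fun u hu w hw e' => ?_⟩
      rw [List.mem_singleton] at hw
      exact (Finset.mem_sdiff.mp he').2 ((hmem e).mpr (hw ▸ e' ▸ hu))
    refine piece (m := 5) h IH (by norm_num) (mkEmb _ hn5) (swap 0 1 * swap 2 3) (swap 1 2 * swap 3 0)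
      (swap 0 4 * swap 1 2) ?_ ?_ ?_ (by decide +kernel) ?_
    · intro i; fin_cases i
      exacts [haS, hbS, hcS, hdS, (Finset.mem_sdiff.mp he').1]
    · intro i; fin_cases i
      exacts [xa, xb, xc, xd, heq.1]
    · intro i; fin_cases i
      exacts [rfl, yb, yc, yd, heq.2]
    · intro S' x'' y'' _ _ _ hc' he''
      have := he''.2.1
      have h5 : (swap 0 1 * swap 2 3 : Perm (Fin 5)).support.card = 4 := by decide +kernel
      rw [h5] at hc'
      omega

/-- A short path leaving from a point moved by one involution only. -/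
inductive End (x y : Perm α) : List α → Prop
  | two (a b : α) : x a = b → y a = a → y b = b → a ≠ b → End x y [a, b]
  | four (a b c d : α) : x a = b → x c = d → y a = a → y b = c → y d = d → [a, b, c, d].Nodup →
      End x y [a, b, c, d]

theorem End.mem {x y : Perm α} (hx : Inv x) (hy : Inv y) {l : List α} (h : End x y l) {v : α} (hv : v ∈ l) :
    x v ≠ v ∧ y v ∈ l := by
  cases h with
  | two a b h1 h2 h3 hab =>
    simp only [List.mem_cons, List.not_mem_nil, or_false] at hv
    rcases hv with rfl | rfl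
    exacts [⟨h1 ▸ hab.symm, by simp [h2]⟩, ⟨(ne_of_swap h1 hx) ▸ hab, by simp [h3]⟩]
  | four a b c d h1 h2 h3 h4 h5 hn =>
    simp only [List.nodup_cons, List.mem_cons, List.not_mem_nil, or_false, not_or, not_false_eq_true,
      List.nodup_nil, and_true] at hn
    simp only [List.mem_cons, List.not_mem_nil, or_false] at hv
    rcases hv with rfl | rfl | rfl | rfl
    exacts [⟨h1 ▸ Ne.symm hn.1.1, by simp [h3]⟩, ⟨(ne_of_swap h1 hx) ▸ hn.1.1, by simp [h4]⟩,
      ⟨h2 ▸ Ne.symm hn.2.2, by simp [ne_of_swap h4 hy]⟩, ⟨(ne_of_swap h2 hx) ▸ hn.2.2, by simp [h5]⟩]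

theorem End.sep {x y : Perm α} (hx : Inv x) (hy : Inv y) {p q : List α} (hp : End x y p) (hq : End y x q) :
    ∀ u ∈ p, ∀ w ∈ q, u ≠ w := by
  have key : ∀ v ∈ p, x v ≠ v ∧ x (y v) ≠ y v := fun v hv =>
    ⟨(hp.mem hx hy hv).1, (hp.mem hx hy (hp.mem hx hy hv).2).1⟩
  intro u hu w hw e
  subst e
  obtain ⟨k1, k2⟩ := key u hu
  cases hq with
  | two a b h1 h2 h3 hab =>
    simp only [List.mem_cons, List.not_mem_nil, or_false] at hw
    rcases hw with rfl | rfl
    exacts [k1 h2, k1 h3]
  | four a b c d h1 h2 h3 h4 h5 hn =>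
    simp only [List.mem_cons, List.not_mem_nil, or_false] at hw
    rcases hw with rfl | rfl | rfl | rfl
    · exact k1 h3
    · exact k2 (by rw [ne_of_swap h1 hy, h3])
    · exact k2 (by rw [h2, h5])
    · exact k1 h5

/-- Points moved by both involutions with different images. -/
theorem endpoint (h : Ok S x y) (IH : Rec S) (hF : ¬ Four x y) (hC : ∀ v, x v ≠ v → x v ≠ y v) {a : α}
    (ha : x a ≠ a) (ha' : y a = a) : Sol S x y ∨ ∃ l, End x y l := by
  have hy' : ∀ v, v ∈ S → y v ∈ S := fun v hv => (h.stable hv).2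
  have hx' : ∀ v, v ∈ S → x v ∈ S := fun v hv => (h.stable hv).1
  have haS : a ∈ S := h.mem (Or.inl ha)
  set b := x a with hb
  have hbS : b ∈ S := hx' a haS
  have hab : a ≠ b := ha.symm
  by_cases hb' : y b = b
  · exact Or.inr ⟨_, End.two a b rfl ha' hb' hab⟩
  set c := y b with hc
  have hcS : c ∈ S := hy' b hbS
  have hbc : b ≠ c := Ne.symm hb'
  have hac : a ≠ c := fun e => hab (y.injective (by rw [← hc, ← e, ha']))
  by_cases hc' : x c = c
  · refine Or.inl (piece_nf (m := 3) h IH hF (by norm_num) (mkEmb [a, b, c] (by simp [hab, hac, hbc])) (swap 0 1)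
      (swap 1 2) (swap 0 1) ?_ ?_ ?_ (by decide +kernel))
    · intro i; fin_cases i <;> assumption
    · intro i; fin_cases i
      exacts [rfl, h.ix a, hc']
    · intro i; fin_cases i
      exacts [ha', rfl, h.iy b]
  set d := x c with hd
  have hdS : d ∈ S := hx' c hcS
  have hcd : c ≠ d := Ne.symm hc'
  have had : a ≠ d := fun e => hbc (x.injective (by rw [← hd, ← e, hb, h.ix]))
  have hbd : b ≠ d := fun e => hac (x.injective (by rw [← hd, ← hb, e]))
  have h4 : [a, b, c, d].Nodup := by simp [hab, hac, hbc, had, hbd, hcd]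
  by_cases hd' : y d = d
  · exact Or.inr ⟨_, End.four a b c d rfl rfl ha' rfl hd' h4⟩
  set e := y d with he
  have heS : e ∈ S := hy' d hdS
  have hde : d ≠ e := Ne.symm hd'
  have hae : a ≠ e := fun e' => had (y.injective (by rw [← he, ← e', ha']))
  have hbe : b ≠ e := fun e' => hcd (by rw [hc, e', he, h.iy])
  have hce : c ≠ e := fun e' => hbd (y.injective (by rw [← he, ← hc, e']))
  by_cases he' : x e = e
  · refine Or.inl (piece_nf (m := 5) h IH hF (by norm_num) (mkEmb [a, b, c, d, e]
      (by simp [hab, hac, hbc, had, hbd, hcd, hde, hae, hbe, hce])) (swap 0 1 * swap 2 3)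
      (swap 1 2 * swap 3 4) (swap 0 1 * swap 2 3) ?_ ?_ ?_ (by decide +kernel))
    · intro i; fin_cases i <;> assumption
    · intro i; fin_cases i
      exacts [rfl, h.ix a, rfl, h.ix c, he']
    · intro i; fin_cases i
      exacts [ha', rfl, h.iy b, rfl, h.iy d]
  set f := x e with hf
  have hef : e ≠ f := Ne.symm he'
  have haf : a ≠ f := fun e' => hbe (by rw [hb, e', hf, h.ix])
  have hbf : b ≠ f := fun e' => hae (x.injective (by rw [← hb, ← hf, e']))
  have hcf : c ≠ f := fun e' => hde (by rw [hd, e', hf, h.ix])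
  have hdf : d ≠ f := fun e' => hce (x.injective (by rw [← hd, ← hf, e']))
  exact Or.inl (segment h IH hF (a := a) (b := b) (c := c) (d := d) (e := e) (f := f)
    (by simp [hab, hac, hbc, had, hbd, hcd, hde, hae, hbe, hce, hef, haf, hbf, hcf, hdf]) rfl rfl rfl rfl rfl)

theorem no_exc_symm (hF : ¬ Four x y) (h : Ok S x y) : ¬ Four y x := by
  rintro ⟨a, h1, h2, h3, h4⟩
  exact hF ⟨a, h2, h1, h3.symm, h4.symm⟩

theorem paired (h : Ok S x y) (IH : Rec S) (hF : ¬ Four x y) {p q : List α} (hp : End x y p) (hq : End y x q) :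
    Sol S x y := by
  have hn : (p ++ q).Nodup := by
    rw [List.nodup_append]
    refine ⟨?_, ?_, hp.sep h.ix h.iy hq⟩
    · cases hp with
      | two a b _ _ _ hab => simp [hab]
      | four a b c d _ _ _ _ _ hn => exact hn
    · cases hq with
      | two a b _ _ _ hab => simp [hab]
      | four a b c d _ _ _ _ _ hn => exact hn
  have hS : ∀ v ∈ p ++ q, v ∈ S := fun v hv => by
    rcases List.mem_append.mp hv with hv | hv
    · exact h.mem (Or.inl (hp.mem h.ix h.iy hv).1)
    · exact h.mem (Or.inr (hq.mem h.iy h.ix hv).1)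
  cases hp with
  | two a b a1 a2 a3 _ =>
    cases hq with
    | two s t s1 s2 s3 _ =>
      refine piece_nf (m := 4) h IH hF (by norm_num) (mkEmb _ hn) (swap 0 1) (swap 2 3) (swap 0 2)
        (fun i => hS _ (List.get_mem _ _)) ?_ ?_ (by decide +kernel)
      · intro i; fin_cases i
        exacts [a1, ne_of_swap a1 h.ix, s2, s3]
      · intro i; fin_cases i
        exacts [a2, a3, s1, ne_of_swap s1 h.iy]
    | four s t u w s1 s2 s3 s4 s5 _ =>
      refine piece_nf (m := 6) h IH hF (by norm_num) (mkEmb _ hn) (swap 0 1 * swap 3 4)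
        (swap 2 3 * swap 4 5) (swap 3 4 * swap 0 2) (fun i => hS _ (List.get_mem _ _)) ?_ ?_ (by decide +kernel)
      · intro i; fin_cases i
        exacts [a1, ne_of_swap a1 h.ix, s3, s4, ne_of_swap s4 h.ix, s5]
      · intro i; fin_cases i
        exacts [a2, a3, s1, ne_of_swap s1 h.iy, s2, ne_of_swap s2 h.iy]
  | four a b c d a1 a2 a3 a4 a5 _ =>
    cases hq with
    | two s t s1 s2 s3 _ =>
      refine piece_nf (m := 6) h IH hF (by norm_num) (mkEmb _ hn) (swap 0 1 * swap 2 3)
        (swap 1 2 * swap 4 5) (swap 1 2 * swap 0 4) (fun i => hS _ (List.get_mem _ _)) ?_ ?_ (by decide +kernel)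
      · intro i; fin_cases i
        exacts [a1, ne_of_swap a1 h.ix, a2, ne_of_swap a2 h.ix, s2, s3]
      · intro i; fin_cases i
        exacts [a3, a4, ne_of_swap a4 h.iy, a5, s1, ne_of_swap s1 h.iy]
    | four s t u w s1 s2 s3 s4 s5 _ =>
      refine piece_nf (m := 8) h IH hF (by norm_num) (mkEmb _ hn) (swap 0 1 * swap 2 3 * swap 5 6)
        (swap 1 2 * swap 4 5 * swap 6 7) (swap 1 2 * swap 5 6 * swap 0 4)
        (fun i => hS _ (List.get_mem _ _)) ?_ ?_ (by decide +kernel)
      · intro i; fin_cases i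
        exacts [a1, ne_of_swap a1 h.ix, a2, ne_of_swap a2 h.ix, s3, s4, ne_of_swap s4 h.ix, s5]
      · intro i; fin_cases i
        exacts [a3, a4, ne_of_swap a4 h.iy, a5, s1, ne_of_swap s1 h.iy, s2, ne_of_swap s2 h.iy]

theorem step (h : Ok S x y) (IH : Rec S) (hS : ¬ Exc S x y) : Sol S x y := by
  classical
  by_cases hF : Four x y
  · exact four_case h IH hS hF
  have hF' := no_exc_symm hF h
  by_cases hC : ∃ v, x v ≠ v ∧ x v = y v
  · obtain ⟨v, h1, h2⟩ := hC
    refine piece_nf (m := 2) h IH hF (by norm_num) (mkEmb [v, x v] (by simp [h1.symm])) (swap 0 1) (swap 0 1)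
      (swap 0 1) ?_ ?_ ?_ (by decide +kernel)
    · intro i; fin_cases i
      exacts [h.mem (Or.inl h1), (h.stable (h.mem (Or.inl h1))).1]
    · intro i; fin_cases i
      exacts [rfl, h.ix v]
    · intro i; fin_cases i
      exacts [h2.symm, (congrArg y h2).trans (h.iy v)]
  push Not at hC
  have hC' : ∀ v, y v ≠ v → y v ≠ x v := by
    intro v hv e
    by_cases hx : x v = v
    · exact hv (e.trans hx)
    · exact hC v hx e.symm
  by_cases hX : ∃ a, x a ≠ a ∧ y a = a
  · obtain ⟨a, ha, ha'⟩ := hX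
    rcases endpoint h IH hF hC ha ha' with hs | ⟨p, hp⟩
    · exact hs
    by_cases hY : ∃ q, y q ≠ q ∧ x q = q
    · obtain ⟨q, hq, hq'⟩ := hY
      rcases endpoint h.symm IH hF' hC' hq hq' with hs | ⟨l, hl⟩
      · exact Sol.symm h hs
      · exact paired h IH hF hp hl
    · push Not at hY
      exfalso
      have hlt : y.support.card < x.support.card := Finset.card_lt_card
        ⟨fun v hv => Perm.mem_support.mpr (hY v (Perm.mem_support.mp hv)),
          fun hle => Perm.mem_support.mp (hle (Perm.mem_support.mpr ha)) ha'⟩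
      have := h.eq
      omega
  push Not at hX
  by_cases hY : ∃ q, y q ≠ q ∧ x q = q
  · obtain ⟨q, hq, hq'⟩ := hY
    exfalso
    have hlt : x.support.card < y.support.card := Finset.card_lt_card
      ⟨fun v hv => Perm.mem_support.mpr (hX v (Perm.mem_support.mp hv)),
        fun hle => Perm.mem_support.mp (hle (Perm.mem_support.mpr hq)) hq'⟩
    have := h.eq
    omega
  push Not at hY
  by_cases hnone : ∀ v, x v = v
  · have h0 : x.support.card = 0 := by rw [Finset.card_eq_zero]; ext v; simp [hnone v]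
    have hx1 : x = 1 := Equiv.ext hnone
    have hy1 : y = 1 := Equiv.ext fun v => by
      by_contra hv; exact hY v hv (hnone v)
    refine ⟨1, fun v => rfl, by simp, by rw [h0]; simp, ?_, ?_⟩
    · intro v; exact ⟨1, odd_one, by simp [hx1]⟩
    · intro v; exact ⟨1, odd_one, by simp [hy1]⟩
  push Not at hnone
  obtain ⟨a, ha⟩ := hnone
  set b := x a with hb
  have hxb : x b ≠ b := fun e => ha (x.injective e)
  set c := y b with hc
  have hbc : b ≠ c := Ne.symm (hX b hxb)
  have hab : a ≠ b := ha.symm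
  have hac : a ≠ c := fun e => hC a ha (by rw [← hb, e, hc, h.iy])
  have hyc : y c ≠ c := fun e => hbc (y.injective e).symm
  have hxc : x c ≠ c := hY c hyc
  set d := x c with hd
  have hcd : c ≠ d := Ne.symm hxc
  have had : a ≠ d := fun e => hbc (x.injective (by rw [← hd, ← e, hb, h.ix]))
  have hbd : b ≠ d := fun e => hac (x.injective (by rw [← hd, ← hb, e]))
  have hxd : x d ≠ d := fun e => hcd (x.injective e).symm
  set e := y d with he
  have hde : d ≠ e := Ne.symm (hX d hxd)
  have hce : c ≠ e := fun e' => hbd (y.injective (by rw [← he, ← hc, e']))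
  have hbe : b ≠ e := fun e' => hcd (by rw [hc, e', he, h.iy])
  have hae : a ≠ e := fun e' => hF ⟨a, ha, hX a ha, hC a ha, by
    have : y a = d := by rw [e', he, h.iy]
    rw [this, hd, h.ix, ← hb, ← hc]⟩
  have hye : y e ≠ e := fun e' => hde (y.injective e').symm
  set f := x e with hf
  have hef : e ≠ f := Ne.symm (hY e hye)
  have haf : a ≠ f := fun e' => hbe (by rw [hb, e', hf, h.ix])
  have hbf : b ≠ f := fun e' => hae (x.injective (by rw [← hb, ← hf, e']))
  have hcf : c ≠ f := fun e' => hde (by rw [hd, e', hf, h.ix])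
  have hdf : d ≠ f := fun e' => hce (x.injective (by rw [← hd, ← hf, e']))
  exact segment h IH hF (a := a) (b := b) (c := c) (d := d) (e := e) (f := f)
    (by simp [hab, hac, hbc, had, hbd, hcd, hde, hae, hbe, hce, hef, haf, hbf, hcf, hdf]) rfl rfl rfl rfl rfl

theorem exists_sol : ∀ (n : ℕ) (S : Finset α) (x y : Perm α), S.card = n → Ok S x y → ¬ Exc S x y → Sol S x y := by
  intro n
  induction n using Nat.strong_induction_on with
  | _ n ih =>
    intro S x y hn h he
    exact step h (fun S' x' y' hlt h' he' => ih _ (hn ▸ hlt) S' x' y' rfl h' he') he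

/-- Two conjugate involutions on at least five points have a common conjugate at odd product. -/
theorem exists_common (hα : 5 ≤ Fintype.card α) (x y : Perm α) (hx : Inv x) (hy : Inv y)
    (hc : x.support.card = y.support.card) :
    ∃ z : Perm α, Inv z ∧ z.support.card = x.support.card ∧ Odd (orderOf (x * z)) ∧ Odd (orderOf (y * z)) := by
  obtain ⟨z, h1, -, h3, h4, h5⟩ := exists_sol _ Finset.univ x y rfl
    ⟨hx, hy, Finset.subset_univ _, Finset.subset_univ _, hc⟩
    (fun he => by have := he.1; rw [Finset.card_univ] at this; omega)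
  exact ⟨z, h1, h3, h4.odd_order, h5.odd_order⟩

end CfsgLib.OddProd
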